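import Cfsg.Agent.Spor.Cert
import Cfsg.Agent.Spor.HNc.C0

set_option autoImplicit false
set_option maxRecDepth 100000000
set_option Elab.async false
set_option linter.unusedSectionVars false

namespace Cfsg.Agent.Spor.HNc

theorem hT : T.Ok 9 := T.ok_of 9 (show AllP (fun n => Net.okb 9 n = true) [n0, n1, n2, n3, n4, n5, n6] from AllP.cons ok0 (AllP.cons ok1 (AllP.cons ok2 (AllP.cons ok3 (AllP.cons ok4 (AllP.cons ok5 (AllP.cons ok6 (AllP.nil))))))))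

noncomputable def fP : ℕ → Equiv.Perm ℕ := T.fP gs

theorem hsq : ∀ j < 0, j < 3 → T.fP gs j * T.fP gs j = 1 :=
  Tab.sq (show AllP (fun z => evA T.τ [z, z] = 1) [] from AllP.nil) 3 rfl

theorem hiv : IvOk (2 * 0) (atm 3 (T.fP gs)) := ivOk_atm hsq

theorem pz1 : PZ T (atm 3 (T.fP gs)) EX 1 := PZ.of_atom (y := 2 * 0) (by decide +kernel) (atm_two_mul _ (by decide))
theorem pz2 : PZ T (atm 3 (T.fP gs)) EX 2 := PZ.of_atom (y := 2 * 1) (by decide +kernel) (atm_two_mul _ (by decide))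
theorem pz3 : PZ T (atm 3 (T.fP gs)) EX 3 := PZ.of_atom (y := 2 * 2) (by decide +kernel) (atm_two_mul _ (by decide))
theorem pz4 : PZ T (atm 3 (T.fP gs)) EX 4 := PZ.of_inv hiv pz1 (by decide +kernel)
theorem pz5 : PZ T (atm 3 (T.fP gs)) EX 5 := PZ.of_inv hiv pz2 (by decide +kernel)
theorem pz6 : PZ T (atm 3 (T.fP gs)) EX 6 := PZ.of_inv hiv pz3 (by decide +kernel)
theorem pz7 : PZ T (atm 3 (T.fP gs)) EX 7 := PZ.of_def hiv (d := [5, 4, 5, 4, 5, 5, 4, 2]) (AllP.cons pz5 (AllP.cons pz4 (AllP.cons pz5 (AllP.cons pz4 (AllP.cons pz5 (AllP.cons pz5 (AllP.cons pz4 (AllP.cons pz2 (AllP.nil))))))))) (hT.one rel0) (by decide +kernel)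
theorem pz8 : PZ T (atm 3 (T.fP gs)) EX 8 := PZ.of_inv hiv pz7 (by decide +kernel)
theorem pz9 : PZ T (atm 3 (T.fP gs)) EX 9 := PZ.of_def hiv (d := [5, 5, 5, 4, 5, 4, 5]) (AllP.cons pz5 (AllP.cons pz5 (AllP.cons pz5 (AllP.cons pz4 (AllP.cons pz5 (AllP.cons pz4 (AllP.cons pz5 (AllP.nil)))))))) (hT.one rel1) (by decide +kernel)
theorem pz10 : PZ T (atm 3 (T.fP gs)) EX 10 := PZ.of_inv hiv pz9 (by decide +kernel)
theorem pz11 : PZ T (atm 3 (T.fP gs)) EX 11 := PZ.of_def hiv (d := [9, 6, 10]) (AllP.cons pz9 (AllP.cons pz6 (AllP.cons pz10 (AllP.nil)))) (hT.one rel2) (by decide +kernel)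
theorem pz12 : PZ T (atm 3 (T.fP gs)) EX 12 := PZ.of_inv hiv pz11 (by decide +kernel)
theorem pz13 : PZ T (atm 3 (T.fP gs)) EX 13 := PZ.of_def hiv (d := [2, 2, 4, 5, 4, 5, 4, 2, 2]) (AllP.cons pz2 (AllP.cons pz2 (AllP.cons pz4 (AllP.cons pz5 (AllP.cons pz4 (AllP.cons pz5 (AllP.cons pz4 (AllP.cons pz2 (AllP.cons pz2 (AllP.nil)))))))))) (hT.one rel3) (by decide +kernel)
theorem pz14 : PZ T (atm 3 (T.fP gs)) EX 14 := PZ.of_inv hiv pz13 (by decide +kernel)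
theorem hPZ : AllP (PZ T (atm 3 (T.fP gs)) EX) L :=
  show AllP (PZ T (atm 3 (T.fP gs)) EX) [1, 2, 3, 4, 5, 6, 7, 8, 9, 10, 11, 12, 13, 14] from AllP.cons pz1 (AllP.cons pz2 (AllP.cons pz3 (AllP.cons pz4 (AllP.cons pz5 (AllP.cons pz6 (AllP.cons pz7 (AllP.cons pz8 (AllP.cons pz9 (AllP.cons pz10 (AllP.cons pz11 (AllP.cons pz12 (AllP.cons pz13 (AllP.cons pz14 (AllP.nil))))))))))))))

theorem hrel : ∀ l ∈ RL, ev (atm 3 (T.fP gs)) l = 1 :=
  relAll_sound hiv (W := [[2, 2, 2, 2, 2, 2], [5, 1, 1, 2, 1, 1], [2, 1, 5, 4, 2, 1, 5, 4, 2, 1, 5, 4], [2, 2, 2, 1, 2, 2, 4, 2, 2, 2, 1, 2, 2, 4, 2, 2, 2, 1, 2, 2, 4], [2, 1, 2, 1, 2, 1, 2, 1, 2, 1, 2, 1, 2, 1, 2, 1], [2, 2, 2, 1, 2, 1, 2, 2, 2, 1, 2, 1, 2, 2, 2, 1, 2, 1, 2, 2, 2, 1, 2, 1], [3, 3], [1, 3, 1, 3], [4, 4, 7, 3, 8, 6], [1, 11, 1, 11, 1, 11, 3], [1, 1, 1, 1], [13, 1, 14, 4]]) (rules := [⟨[2, 2, 2, 2, 2, 2], [], 0, true⟩, ⟨[5, 1,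 1, 2, 1, 1], [], 1, true⟩, ⟨[2, 1, 5, 4, 2, 1, 5, 4, 2, 1, 5, 4], [], 2, true⟩, ⟨[2, 2, 2, 1, 2, 2, 4, 2, 2, 2, 1, 2, 2, 4, 2, 2, 2, 1, 2, 2, 4], [], 3, true⟩, ⟨[2, 1, 2, 1, 2, 1, 2, 1, 2, 1, 2, 1, 2, 1, 2, 1], [], 4, true⟩, ⟨[2, 2, 2, 1, 2, 1, 2, 2, 2, 1, 2, 1, 2, 2, 2, 1, 2, 1, 2, 2, 2, 1, 2, 1], [], 5, true⟩, ⟨[3, 3], [], 6, true⟩, ⟨[1, 3, 1, 3], [], 7, true⟩, ⟨[4, 4, 7, 3, 8, 6], [], 8, true⟩, ⟨[1, 11, 1, 11, 1, 11, 3], [], 9, true⟩, ⟨[1, 1, 1, 1], [], 10, true⟩, ⟨[13, 1, 14, 4], [], 11, true⟩]) hPZ (AllP.cons (hT.one rel4) (AllP.cons (hT.one rel5) (AllP.cons (hT.one rel6) (AllP.cons (hT.one rel7) (AllP.cons (hT.one rel8) (AllP.cons (hT.one rel9) (AllP.cons (hT.one rel10) (AllP.cons (hT.one rel11) (AllP.cons (hT.one rel12) (AllP.cons (hT.one rel13) (AllP.cons (hT.one rel14) (AllP.cons (hT.one rel15) (AllP.nil))))))))))))) (by decide +kernel)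

theorem hst : StepsOk F IV RT base 19443 45879 := (StepsOk.trans (StepsOk.trans (StepsOk.trans (StepsOk.trans (StepsOk.trans (StepsOk.trans (StepsOk.trans (StepsOk.trans (StepsOk.trans (StepsOk.trans (StepsOk.trans (StepsOk.trans (StepsOk.trans (StepsOk.trans (StepsOk.trans (StepsOk.trans (StepsOk.trans (StepsOk.trans (StepsOk.trans (steps_sound' st0) (steps_sound' st1)) (steps_sound' st2)) (steps_sound' st3)) (steps_sound' st4)) (steps_sound' st5)) (steps_sound' st6)) (steps_sound' st7)) (steps_sound' st8)) (steps_sound' st9)) (steps_sound' st10)) (steps_sound' st11)) (steps_sound' st12)) (steps_sound' st13)) (steps_sound' st14)) (steps_sound' st15)) (steps_sound' st16)) (steps_sound' st17)) (steps_sound' st18)) (steps_sound' st19))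

section
variable {G : Type} [Group G] {a : ℕ → G} (hi : IvOk (2 * 0) a) (hR : ∀ r ∈ RL, ev a r = 1)
  {H : Subgroup G} (hb : ∀ z ∈ base, letV a EX z ∈ H)
include hi hR hb

theorem let1 : LetOk H (letV a EX) T L 1 :=
  LetOk.of hT tl1 cov1 (AllP.cons (Just.rot hT hi hR rot1_1 rot1_1r) (AllP.cons (Just.rot hT hi hR rot1_2 rot1_2r) (AllP.cons (Just.rot hT hi hR rot1_3 rot1_3r) (AllP.cons (Just.rot hT hi hR rot1_4 rot1_4r) (AllP.cons (Just.rot hT hi hR rot1_5 rot1_5r) (AllP.cons (Just.rot hT hi hR rot1_6 rot1_6r) (AllP.cons (Just.rot hT hi hR rot1_7 rot1_7r) (AllP.cons (Just.rot hT hi hR rot1_8 rot1_8r) (AllP.cons (Just.rot hT hi hR rot1_9 rot1_9r) (AllP.cons (Just.rot hT hi hR rot1_10 rot1_10r) (AllP.cons (Just.rot hT hi hR rot1_11 rot1_11r) (AllP.cons (Just.rot hT hi hR rot1_12 rot1_12r) (AllP.cons (Just.rot hT hi hR rot1_13 rot1_13r) (AllP.cons (Just.rot hT hi hR rot1_14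 rot1_14r) (AllP.cons (Just.rot hT hi hR rot1_15 rot1_15r) (AllP.cons (Just.rot hT hi hR rot1_16 rot1_16r) (AllP.cons (Just.rot hT hi hR rot1_17 rot1_17r) (AllP.cons (Just.rot hT hi hR rot1_18 rot1_18r) (AllP.cons (Just.rot hT hi hR rot1_19 rot1_19r) (AllP.cons (Just.rot hT hi hR rot1_20 rot1_20r) (AllP.cons (Just.rot hT hi hR rot1_21 rot1_21r) (AllP.cons (Just.rot hT hi hR rot1_22 rot1_22r) (AllP.cons (Just.rot hT hi hR rot1_23 rot1_23r) (AllP.cons (Just.base (hb 1 (by decide))) (AllP.cons (Just.epi hT hi ep2a ep2b (seq_mem hi hR rfl hivk hrt H hb hdefs hst ep2c) ep2d) (AllP.cons (Just.epi hT hi ep9a ep9b (seq_mem hi hR rfl hivk hrt H hb hdefs hst ep9c) ep9d) (AllP.cons (Just.epi hT hi ep11a ep11b (seq_mem hi hR rfl hivk hrt H hb hdefs hst ep11c) ep11d) (AllP.cons (Just.epi hT hi ep13a ep13b (seq_mem hi hR rfl hivk hrt H hb hdefs hst ep13c) ep13d) (AllP.cons (Just.epi hT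 hi ep26a ep26b (seq_mem hi hR rfl hivk hrt H hb hdefs hst ep26c) ep26d) (AllP.cons (Just.epi hT hi ep30a ep30b (seq_mem hi hR rfl hivk hrt H hb hdefs hst ep30c) ep30d) (AllP.nil)))))))))))))))))))))))))))))))
theorem let2 : LetOk H (letV a EX) T L 2 :=
  LetOk.of hT tl2 cov2 (AllP.cons (Just.rot hT hi hR rot2_1 rot2_1r) (AllP.cons (Just.rot hT hi hR rot2_2 rot2_2r) (AllP.cons (Just.rot hT hi hR rot2_3 rot2_3r) (AllP.cons (Just.rot hT hi hR rot2_4 rot2_4r) (AllP.cons (Just.rot hT hi hR rot2_5 rot2_5r) (AllP.cons (Just.rot hT hi hR rot2_6 rot2_6r) (AllP.cons (Just.rot hT hi hR rot2_7 rot2_7r) (AllP.cons (Just.rot hT hi hR rot2_8 rot2_8r) (AllP.cons (Just.rot hT hi hR rot2_9 rot2_9r) (AllP.cons (Just.rot hT hi hR rot2_10 rot2_10r) (AllP.cons (Just.rot hT hi hR rot2_11 rot2_11r) (AllP.cons (Just.rot hT hi hR rot2_12 rot2_12r) (AllP.cons (Just.rot hT hi hR rot2_13 rot2_13r) (AllP.cons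 (Just.rot hT hi hR rot2_14 rot2_14r) (AllP.cons (Just.rot hT hi hR rot2_15 rot2_15r) (AllP.cons (Just.rot hT hi hR rot2_16 rot2_16r) (AllP.cons (Just.rot hT hi hR rot2_17 rot2_17r) (AllP.cons (Just.rot hT hi hR rot2_18 rot2_18r) (AllP.cons (Just.rot hT hi hR rot2_19 rot2_19r) (AllP.cons (Just.rot hT hi hR rot2_20 rot2_20r) (AllP.cons (Just.rot hT hi hR rot2_21 rot2_21r) (AllP.cons (Just.rot hT hi hR rot2_22 rot2_22r) (AllP.cons (Just.rot hT hi hR rot2_23 rot2_23r) (AllP.cons (Just.rot hT hi hR rot2_24 rot2_24r) (AllP.cons (Just.rot hT hi hR rot2_25 rot2_25r) (AllP.cons (Just.rot hT hi hR rot2_26 rot2_26r) (AllP.cons (Just.rot hT hi hR rot2_27 rot2_27r) (AllP.cons (Just.rot hT hi hR rot2_28 rot2_28r) (AllP.cons (Just.base (hb 2 (by decide))) (AllP.cons (Just.epi hT hi ep0a ep0b (seq_mem hi hR rfl hivk hrt H hb hdefs hst ep0c) ep0d) (AllP.cons (Just.epi hT hi ep5a ep5b (seq_mem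 hi hR rfl hivk hrt H hb hdefs hst ep5c) ep5d) (AllP.cons (Just.epi hT hi ep6a ep6b (seq_mem hi hR rfl hivk hrt H hb hdefs hst ep6c) ep6d) (AllP.cons (Just.epi hT hi ep7a ep7b (seq_mem hi hR rfl hivk hrt H hb hdefs hst ep7c) ep7d) (AllP.cons (Just.epi hT hi ep12a ep12b (seq_mem hi hR rfl hivk hrt H hb hdefs hst ep12c) ep12d) (AllP.cons (Just.epi hT hi ep19a ep19b (seq_mem hi hR rfl hivk hrt H hb hdefs hst ep19c) ep19d) (AllP.cons (Just.epi hT hi ep22a ep22b (seq_mem hi hR rfl hivk hrt H hb hdefs hst ep22c) ep22d) (AllP.cons (Just.epi hT hi ep27a ep27b (seq_mem hi hR rfl hivk hrt H hb hdefs hst ep27c) ep27d) (AllP.cons (Just.epi hT hi ep28a ep28b (seq_mem hi hR rfl hivk hrt H hb hdefs hst ep28c) ep28d) (AllP.nil)))))))))))))))))))))))))))))))))))))))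
theorem let3 : LetOk H (letV a EX) T L 3 :=
  LetOk.of hT tl3 cov3 (AllP.cons (Just.rot hT hi hR rot3_1 rot3_1r) (AllP.cons (Just.rot hT hi hR rot3_2 rot3_2r) (AllP.cons (Just.rot hT hi hR rot3_3 rot3_3r) (AllP.cons (Just.rot hT hi hR rot3_4 rot3_4r) (AllP.cons (Just.rot hT hi hR rot3_5 rot3_5r) (AllP.cons (Just.rot hT hi hR rot3_6 rot3_6r) (AllP.cons (Just.epi hT hi ep8a ep8b (seq_mem hi hR rfl hivk hrt H hb hdefs hst ep8c) ep8d) (AllP.cons (Just.epi hT hi ep16a ep16b (seq_mem hi hR rfl hivk hrt H hb hdefs hst ep16c) ep16d) (AllP.cons (Just.epi hT hi ep17a ep17b (seq_mem hi hR rfl hivk hrt H hb hdefs hst ep17c) ep17d) (AllP.cons (Just.epi hT hi ep24a ep24b (seq_mem hi hR rfl hivk hrt H hb hdefs hst ep24c) ep24d) (AllP.nil)))))))))))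
theorem let4 : LetOk H (letV a EX) T L 4 :=
  LetOk.of' hT tl4 cov4 (AllP.cons (Just.rot hT hi hR rot4_1 rot4_1r) (AllP.cons (Just.rot hT hi hR rot4_2 rot4_2r) (AllP.cons (Just.rot hT hi hR rot4_3 rot4_3r) (AllP.cons (Just.rot hT hi hR rot4_4 rot4_4r) (AllP.cons (Just.rot hT hi hR rot4_5 rot4_5r) (AllP.cons (Just.rot hT hi hR rot4_6 rot4_6r) (AllP.cons (Just.rot hT hi hR rot4_7 rot4_7r) (AllP.cons (Just.rot hT hi hR rot4_8 rot4_8r) (AllP.cons (Just.rot hT hi hR rot4_9 rot4_9r) (AllP.cons (Just.rot hT hi hR rot4_10 rot4_10r) (AllP.cons (Just.rot hT hi hR rot4_11 rot4_11r) (AllP.cons (Just.rot hT hi hR rot4_12 rot4_12r) (AllP.cons (Just.rot hT hi hR rot4_13 rot4_13r) (AllP.cons (Just.rot hT hi hR rot4_14 rot4_14r) (AllP.cons (Just.rot hT hi hR rot4_15 rot4_15r) (AllP.cons (Just.rot hT hi hR rot4_16 rot4_16r) (AllP.cons (Just.rot hT hi hR rot4_17 rot4_17r) (AllP.cons (Just.rot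 hT hi hR rot4_18 rot4_18r) (AllP.cons (Just.rot hT hi hR rot4_19 rot4_19r) (AllP.cons (Just.rot hT hi hR rot4_20 rot4_20r) (AllP.cons (Just.rot hT hi hR rot4_21 rot4_21r) (AllP.cons (Just.rot hT hi hR rot4_22 rot4_22r) (AllP.cons (Just.rot hT hi hR rot4_23 rot4_23r) (AllP.nil))))))))))))))))))))))))
theorem let5 : LetOk H (letV a EX) T L 5 :=
  LetOk.of hT tl5 cov5 (AllP.cons (Just.rot hT hi hR rot5_1 rot5_1r) (AllP.cons (Just.rot hT hi hR rot5_2 rot5_2r) (AllP.cons (Just.rot hT hi hR rot5_3 rot5_3r) (AllP.cons (Just.rot hT hi hR rot5_4 rot5_4r) (AllP.cons (Just.rot hT hi hR rot5_5 rot5_5r) (AllP.cons (Just.rot hT hi hR rot5_6 rot5_6r) (AllP.cons (Just.rot hT hi hR rot5_7 rot5_7r) (AllP.cons (Just.rot hT hi hR rot5_8 rot5_8r) (AllP.cons (Just.rot hT hi hR rot5_9 rot5_9r) (AllP.cons (Just.rot hT hi hR rot5_10 rot5_10r) (AllP.cons (Just.rot hT hi hR rot5_11 rot5_11r) (AllP.cons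 (Just.rot hT hi hR rot5_12 rot5_12r) (AllP.cons (Just.rot hT hi hR rot5_13 rot5_13r) (AllP.cons (Just.rot hT hi hR rot5_14 rot5_14r) (AllP.cons (Just.rot hT hi hR rot5_15 rot5_15r) (AllP.cons (Just.rot hT hi hR rot5_16 rot5_16r) (AllP.cons (Just.rot hT hi hR rot5_17 rot5_17r) (AllP.cons (Just.rot hT hi hR rot5_18 rot5_18r) (AllP.cons (Just.rot hT hi hR rot5_19 rot5_19r) (AllP.cons (Just.rot hT hi hR rot5_20 rot5_20r) (AllP.cons (Just.rot hT hi hR rot5_21 rot5_21r) (AllP.cons (Just.rot hT hi hR rot5_22 rot5_22r) (AllP.cons (Just.rot hT hi hR rot5_23 rot5_23r) (AllP.cons (Just.rot hT hi hR rot5_24 rot5_24r) (AllP.cons (Just.rot hT hi hR rot5_25 rot5_25r) (AllP.cons (Just.rot hT hi hR rot5_26 rot5_26r) (AllP.cons (Just.rot hT hi hR rot5_27 rot5_27r) (AllP.cons (Just.rot hT hi hR rot5_28 rot5_28r) (AllP.cons (Just.rot hT hi hR rot5_29 rot5_29r) (AllP.cons (Just.rot hT hi hR rot5_30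 rot5_30r) (AllP.cons (Just.rot hT hi hR rot5_31 rot5_31r) (AllP.cons (Just.rot hT hi hR rot5_32 rot5_32r) (AllP.cons (Just.epi hT hi ep1a ep1b (seq_mem hi hR rfl hivk hrt H hb hdefs hst ep1c) ep1d) (AllP.cons (Just.epi hT hi ep3a ep3b (seq_mem hi hR rfl hivk hrt H hb hdefs hst ep3c) ep3d) (AllP.cons (Just.epi hT hi ep4a ep4b (seq_mem hi hR rfl hivk hrt H hb hdefs hst ep4c) ep4d) (AllP.cons (Just.epi hT hi ep10a ep10b (seq_mem hi hR rfl hivk hrt H hb hdefs hst ep10c) ep10d) (AllP.cons (Just.epi hT hi ep14a ep14b (seq_mem hi hR rfl hivk hrt H hb hdefs hst ep14c) ep14d) (AllP.cons (Just.epi hT hi ep15a ep15b (seq_mem hi hR rfl hivk hrt H hb hdefs hst ep15c) ep15d) (AllP.cons (Just.epi hT hi ep18a ep18b (seq_mem hi hR rfl hivk hrt H hb hdefs hst ep18c) ep18d) (AllP.cons (Just.epi hT hi ep20a ep20b (seq_mem hi hR rfl hivk hrt H hb hdefs hst ep20c) ep20d) (AllP.cons (Just.epi hT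 hi ep21a ep21b (seq_mem hi hR rfl hivk hrt H hb hdefs hst ep21c) ep21d) (AllP.cons (Just.epi hT hi ep23a ep23b (seq_mem hi hR rfl hivk hrt H hb hdefs hst ep23c) ep23d) (AllP.cons (Just.epi hT hi ep25a ep25b (seq_mem hi hR rfl hivk hrt H hb hdefs hst ep25c) ep25d) (AllP.cons (Just.epi hT hi ep29a ep29b (seq_mem hi hR rfl hivk hrt H hb hdefs hst ep29c) ep29d) (AllP.nil)))))))))))))))))))))))))))))))))))))))))))))
theorem let6 : LetOk H (letV a EX) T L 6 :=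
  LetOk.of' hT tl6 cov6 (AllP.cons (Just.rot hT hi hR rot6_1 rot6_1r) (AllP.cons (Just.rot hT hi hR rot6_2 rot6_2r) (AllP.cons (Just.rot hT hi hR rot6_3 rot6_3r) (AllP.cons (Just.rot hT hi hR rot6_4 rot6_4r) (AllP.cons (Just.rot hT hi hR rot6_5 rot6_5r) (AllP.cons (Just.rot hT hi hR rot6_6 rot6_6r) (AllP.cons (Just.rot hT hi hR rot6_7 rot6_7r) (AllP.nil))))))))
theorem let7 : LetOk H (letV a EX) T L 7 :=
  LetOk.of' hT tl7 cov7 (AllP.cons (Just.rot hT hi hR rot7_1 rot7_1r) (AllP.cons (Just.rot hT hi hR rot7_2 rot7_2r) (AllP.cons (Just.rot hT hi hR rot7_3 rot7_3r) (AllP.nil))))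
theorem let8 : LetOk H (letV a EX) T L 8 :=
  LetOk.of' hT tl8 cov8 (AllP.cons (Just.rot hT hi hR rot8_1 rot8_1r) (AllP.cons (Just.rot hT hi hR rot8_2 rot8_2r) (AllP.cons (Just.rot hT hi hR rot8_3 rot8_3r) (AllP.cons (Just.rot hT hi hR rot8_4 rot8_4r) (AllP.nil)))))
theorem let9 : LetOk H (letV a EX) T L 9 :=
  LetOk.of' hT tl9 cov9 (AllP.cons (Just.rot hT hi hR rot9_1 rot9_1r) (AllP.cons (Just.rot hT hi hR rot9_2 rot9_2r) (AllP.cons (Just.rot hT hi hR rot9_3 rot9_3r) (AllP.nil))))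
theorem let10 : LetOk H (letV a EX) T L 10 :=
  LetOk.of' hT tl10 cov10 (AllP.cons (Just.rot hT hi hR rot10_1 rot10_1r) (AllP.cons (Just.rot hT hi hR rot10_2 rot10_2r) (AllP.cons (Just.rot hT hi hR rot10_3 rot10_3r) (AllP.nil))))
theorem let11 : LetOk H (letV a EX) T L 11 :=
  LetOk.of' hT tl11 cov11 (AllP.cons (Just.rot hT hi hR rot11_1 rot11_1r) (AllP.cons (Just.rot hT hi hR rot11_2 rot11_2r) (AllP.cons (Just.rot hT hi hR rot11_3 rot11_3r) (AllP.cons (Just.rot hT hi hR rot11_4 rot11_4r) (AllP.nil)))))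
theorem let12 : LetOk H (letV a EX) T L 12 :=
  LetOk.of' hT tl12 cov12 (AllP.cons (Just.rot hT hi hR rot12_1 rot12_1r) (AllP.cons (Just.rot hT hi hR rot12_2 rot12_2r) (AllP.cons (Just.rot hT hi hR rot12_3 rot12_3r) (AllP.cons (Just.rot hT hi hR rot12_4 rot12_4r) (AllP.nil)))))
theorem let13 : LetOk H (letV a EX) T L 13 :=
  LetOk.of' hT tl13 cov13 (AllP.cons (Just.rot hT hi hR rot13_1 rot13_1r) (AllP.cons (Just.rot hT hi hR rot13_2 rot13_2r) (AllP.cons (Just.rot hT hi hR rot13_3 rot13_3r) (AllP.nil))))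
theorem let14 : LetOk H (letV a EX) T L 14 :=
  LetOk.of' hT tl14 cov14 (AllP.cons (Just.rot hT hi hR rot14_1 rot14_1r) (AllP.cons (Just.rot hT hi hR rot14_2 rot14_2r) (AllP.cons (Just.rot hT hi hR rot14_3 rot14_3r) (AllP.nil))))
theorem hlet : AllP (LetOk H (letV a EX) T L) L :=
  show AllP (LetOk H (letV a EX) T L) [1, 2, 3, 4, 5, 6, 7, 8, 9, 10, 11, 12, 13, 14] from AllP.cons (let1 hi hR hb) (AllP.cons (let2 hi hR hb) (AllP.cons (let3 hi hR hb) (AllP.cons (let4 hi hR hb) (AllP.cons (let5 hi hR hb) (AllP.cons (let6 hi hR hb) (AllP.cons (let7 hi hR hb) (AllP.cons (let8 hi hR hb) (AllP.cons (let9 hi hR hb) (AllP.cons (let10 hi hR hb) (AllP.cons (let11 hi hR hb) (AllP.cons (let12 hi hR hb) (AllP.cons (let13 hi hR hb) (AllP.cons (let14 hi hR hb) (AllP.nil))))))))))))))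
end

theorem cert : Cert 3 0 RL BW fP 352 :=
  Cert.of hT ⟨hsq, hrel⟩ hPZ (fun _ _ _ hi hR _ hb => hlet hi hR hb) hcov hg (by decide +kernel)

end Cfsg.Agent.Spor.HNc
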